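import Groth.Agent.Lib.SuppQCoh13.Top
import Groth.Agent.Lib.CohFound.RpushQCoh
import Groth.Agent.Lib.RDComp.Acyclic
import Groth.Agent.Lib.RDComp.Post
import Groth.Agent.Lib.RHom.QCoh

/-!
# Quasi-coherence of local cohomology sheaves with supports in a locally closed subset
-/

set_option autoImplicit false
set_option backward.isDefEq.respectTransparency false
set_option backward.isDefEq.respectTransparency.types false
set_option linter.style.haveILetI false
set_option maxHeartbeats 400000

universe u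

open CategoryTheory CategoryTheory.Limits Opposite TopologicalSpace AlgebraicGeometry

noncomputable section

namespace Groth.Agent.SuppQCoh13

variable {Y : Scheme.{u}}

/-- `j_* j^*` of modules. -/
abbrev PvM (V : Y.Opens) : Y.Modules ⥤ Y.Modules :=
  Scheme.Modules.restrictFunctor V.ι ⋙ Scheme.Modules.pushforward V.ι

/-- Its underlying abelian sheaf. -/
def abPvIso (V : Y.Opens) : PvM V ⋙ CohFound.abF Y ≅ CohFound.abF Y ⋙ Pv (X := Y.carrier) V :=
  NatIso.ofComponents
    (fun G => (fullyFaithfulSheafToPresheaf _ _).preimageIso (NatIso.ofComponents (fun _ => Iso.refl _) fun _ => rfl))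
    (fun f => by ext O s; rfl)

variable {W V : Y.Opens} (h : W ≤ V)

/-- Restriction of modules from `V` to `W`. -/
def ρM : PvM V ⟶ PvM W where
  app G := Scheme.Modules.fullyFaithfulToPresheafOfModules.preimage
    (PresheafOfModules.homMk (M₁ := ((PvM V).obj G).val) (M₂ := ((PvM W).obj G).val)
      (((abPvIso V).hom.app G ≫ (ρ (X := Y.carrier) h).app ((CohFound.abF Y).obj G) ≫ (abPvIso W).inv.app G).hom)
      (fun O (r : Γ(Y, O.unop)) (s : Γ(G, V.ι ''ᵁ (V.ι ⁻¹ᵁ O.unop))) => by
        have hle : W.ι ''ᵁ (W.ι ⁻¹ᵁ O.unop) ≤ V.ι ''ᵁ (V.ι ⁻¹ᵁ O.unop) := part_mono (X := Y.carrier) h O.unop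
        change M1.mres G hle
            ((V.ι.appIso (V.ι ⁻¹ᵁ O.unop)).inv (V.ι.app O.unop r) • s) =
          (W.ι.appIso (W.ι ⁻¹ᵁ O.unop)).inv (W.ι.app O.unop r) •
            M1.mres G hle s
        rw [Scheme.Modules.map_smul, Scheme.Opens.ι_appIso, Scheme.Opens.ι_appIso, Scheme.Opens.ι_app,
          Scheme.Opens.ι_app]
        congr 1
        simp only [Iso.refl_inv]
        exact (ConcreteCategory.comp_apply _ _ _).symm.trans
          (ConcreteCategory.congr_hom ((Y.presheaf.map_comp _ _).symm.trans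
            (congrArg Y.presheaf.map (Subsingleton.elim _ _))) r)))
  naturality G G' f := by
    apply (CohFound.abF Y).map_injective
    ext O s
    exact (f.mapPresheaf.naturality_apply (homOfLE (part_mono (X := Y.carrier) h O.unop)).op s).symm

theorem abF_ρM (G : Y.Modules) : (CohFound.abF Y).map ((ρM h).app G) =
    (abPvIso V).hom.app G ≫ (ρ (X := Y.carrier) h).app ((CohFound.abF Y).obj G) ≫ (abPvIso W).inv.app G := by
  ext O s
  rfl

/-- Sections with supports of modules. -/
def Tm : Y.Modules ⥤ Y.Modules where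
  obj G := kernel ((ρM h).app G)
  map f := kernel.map _ _ ((PvM V).map f) ((PvM W).map f) ((ρM h).naturality f).symm
  map_id G := by
    apply equalizer.hom_ext
    simp [kernel.map]
  map_comp f g := by
    apply equalizer.hom_ext
    simp [kernel.map]

instance : (Tm h).Additive where
  map_add := by
    intros
    apply equalizer.hom_ext
    simp [Tm, kernel.map]

/-- The inclusion. -/
def κM : Tm h ⟶ PvM V where
  app G := kernel.ι _
  naturality _ _ _ := kernel.lift_ι _ _ _

theorem κM_ρM (G : Y.Modules) : (κM h).app G ≫ (ρM h).app G = 0 := kernel.condition _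

theorem abκ_comp (G : Y.Modules) : ((CohFound.abF Y).map ((κM h).app G) ≫ (abPvIso V).hom.app G) ≫
    (ρ (X := Y.carrier) h).app ((CohFound.abF Y).obj G) = 0 := by
  rw [← cancel_mono ((abPvIso W).inv.app G), Category.assoc, Category.assoc, zero_comp]
  rw [← abF_ρM, ← Functor.map_comp, κM_ρM, Functor.map_zero]

/-- The comparison map. -/
def cmpHom (G : Y.Modules) :
    (CohFound.abF Y).obj ((Tm h).obj G) ⟶ (SuppFam.sectSuppLC (X := Y.carrier) h).obj ((CohFound.abF Y).obj G) :=
  haveI := mono_κ (X := Y.carrier) h ((CohFound.abF Y).obj G)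
  (exact_κ_ρ (X := Y.carrier) h ((CohFound.abF Y).obj G)).lift
    ((CohFound.abF Y).map ((κM h).app G) ≫ (abPvIso V).hom.app G) (abκ_comp h G)

theorem cmpHom_κ (G : Y.Modules) : cmpHom h G ≫ (κ (X := Y.carrier) h).app ((CohFound.abF Y).obj G) =
    (CohFound.abF Y).map ((κM h).app G) ≫ (abPvIso V).hom.app G :=
  haveI := mono_κ (X := Y.carrier) h ((CohFound.abF Y).obj G)
  ShortComplex.Exact.lift_f (exact_κ_ρ (X := Y.carrier) h ((CohFound.abF Y).obj G)) _ _

theorem isIso_cmpHom (G : Y.Modules) : IsIso (cmpHom h G) := by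
  haveI := mono_κ (X := Y.carrier) h ((CohFound.abF Y).obj G)
  let Tab := (SuppFam.sectSuppLC (X := Y.carrier) h).obj ((CohFound.abF Y).obj G)
  let back : Tab ⟶ (CohFound.abF Y).obj ((Tm h).obj G) :=
    kernel.lift ((CohFound.abF Y).map ((ρM h).app G))
      ((κ (X := Y.carrier) h).app ((CohFound.abF Y).obj G) ≫ (abPvIso V).inv.app G) (by
        rw [abF_ρM, Category.assoc, Iso.inv_hom_id_app_assoc, ← Category.assoc, κ_ρ, zero_comp]) ≫
      (PreservesKernel.iso (CohFound.abF Y) ((ρM h).app G)).inv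
  haveI : Mono ((CohFound.abF Y).map ((κM h).app G)) := by
    change Mono ((CohFound.abF Y).map (kernel.ι ((ρM h).app G)))
    infer_instance
  have hb : back ≫ (CohFound.abF Y).map ((κM h).app G) =
      (κ (X := Y.carrier) h).app ((CohFound.abF Y).obj G) ≫ (abPvIso V).inv.app G := by
    simp [back, κM]
  refine ⟨⟨back, ?_, ?_⟩⟩
  · rw [← cancel_mono ((CohFound.abF Y).map ((κM h).app G)), Category.assoc, hb, ← Category.assoc, cmpHom_κ,
      Category.assoc, Iso.hom_inv_id_app, Category.id_comp]
    exact Category.comp_id _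
  · rw [← cancel_mono ((κ (X := Y.carrier) h).app ((CohFound.abF Y).obj G)), Category.assoc, cmpHom_κ,
      ← Category.assoc, hb, Category.assoc, Iso.inv_hom_id_app, Category.id_comp]
    exact Category.comp_id _

/-- The two sections with supports agree. -/
def cmpIso : Tm h ⋙ CohFound.abF Y ≅ CohFound.abF Y ⋙ SuppFam.sectSuppLC (X := Y.carrier) h :=
  NatIso.ofComponents (fun G => @asIso _ _ _ _ (cmpHom h G) (isIso_cmpHom h G)) (fun {G G'} f => by
    haveI := mono_κ (X := Y.carrier) h ((CohFound.abF Y).obj G')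
    rw [← cancel_mono ((κ (X := Y.carrier) h).app ((CohFound.abF Y).obj G'))]
    simp only [asIso_hom, Functor.comp_map, Category.assoc]
    rw [(κ (X := Y.carrier) h).naturality, ← Category.assoc (cmpHom h G), cmpHom_κ, cmpHom_κ,
      ← Category.assoc, ← Functor.map_comp, (κM h).naturality, Functor.map_comp, Category.assoc, Category.assoc]
    exact congrArg (_ ≫ ·) ((abPvIso V).hom.naturality f))

theorem shortExact_injective (I : Y.Modules) [Injective I] :
    (ShortComplex.mk ((κM h).app I) ((ρM h).app I) (κM_ρM h I)).ShortExact where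
  exact := ShortComplex.exact_kernel _
  mono_f := inferInstanceAs (Mono (kernel.ι ((ρM h).app I)))
  epi_g := by
    haveI : TopCat.Sheaf.IsFlasque ((CohFound.abF Y).obj I) := CohFound.isFlasque_abF_injective I
    haveI := epi_ρ (X := Y.carrier) h ((CohFound.abF Y).obj I)
    haveI : Epi ((CohFound.abF Y).map ((ρM h).app I)) := by
      rw [abF_ρM]
      exact @epi_comp _ _ _ _ _ _ inferInstance _ (@epi_comp _ _ _ _ _ _ inferInstance _ inferInstance)
    exact (CohFound.abF Y).epi_of_epi_map inferInstance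

theorem isQCoh_rightDerived_PvM (V : Y.Opens) [QuasiCompact V.ι] (F : Y.Modules) (hF : Coh.IsQCoh F) (q : ℕ) :
    Coh.IsQCoh (((PvM V).rightDerived q).obj F) := by
  let I := injectiveResolution F
  let a := (ComplexShape.up ℕ).prev q
  let R := (CohFound.ModRes.ofInj I).restrict V.ι
  haveI : QuasiSeparated V.ι := inferInstance
  have hR : Coh.IsQCoh (R.pushSC V.ι a q).homology :=
    CohFound.isQCoh_homology_pushSC R V.ι (M1.isQCoh_restrict hF V.ι) rfl
  exact M1.isQCoh_of_isIso (I.isoRightDerivedObj (PvM V) q ≪≫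
    ShortComplex.homologyMapIso ((((PvM V).mapHomologicalComplex
      (ComplexShape.up ℕ)).obj I.cocomplex).isoSc' a q (q + 1) rfl (CochainComplex.next ℕ q))).symm hR

theorem isQCoh_rightDerived_Tm [QuasiCompact V.ι] [QuasiCompact W.ι] (F : Y.Modules) (hF : Coh.IsQCoh F)
    (i : ℕ) : Coh.IsQCoh (((Tm h).rightDerived i).obj F) := by
  let I := injectiveResolution F
  let S := RDSeq.cxSeq (κM h) (ρM h) (κM_ρM h) I.cocomplex
  have hS : S.ShortExact :=
    RDSeq.cxSeq_shortExact (κM h) (ρM h) (κM_ρM h) (fun J hJ => @shortExact_injective _ _ _ h J hJ) _ I.injective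
  have hV : ∀ n, Coh.IsQCoh (S.X₂.homology n) := fun n =>
    M1.isQCoh_of_isIso (I.isoRightDerivedObj (PvM V) n) (isQCoh_rightDerived_PvM V F hF n)
  have hW : ∀ n, Coh.IsQCoh (S.X₃.homology n) := fun n =>
    M1.isQCoh_of_isIso (I.isoRightDerivedObj (PvM W) n) (isQCoh_rightDerived_PvM W F hF n)
  refine M1.isQCoh_of_isIso (I.isoRightDerivedObj (Tm h) i).symm ?_
  change Coh.IsQCoh (S.X₁.homology i)
  cases i with
  | succ n =>
    exact RHom.mid_qcoh.mid (HomologicalComplex.homologyMap S.g n) (hS.δ n (n + 1) rfl)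
      (HomologicalComplex.homologyMap S.f (n + 1)) (HomologicalComplex.homologyMap S.g (n + 1))
      (hS.comp_δ n (n + 1) rfl) (hS.δ_comp n (n + 1) rfl)
      (by rw [← HomologicalComplex.homologyMap_comp, S.zero, HomologicalComplex.homologyMap_zero])
      (hS.homology_exact₃ n (n + 1) rfl) (hS.homology_exact₁ n (n + 1) rfl) (hS.homology_exact₂ (n + 1))
      (hV n) (hW n) (hV (n + 1)) (hW (n + 1))
  | zero =>
    haveI : Mono (S.f.f 0) := ((shortExact_injective h (I.cocomplex.X 0))).mono_f
    haveI : Mono (HomologicalComplex.cyclesMap S.f 0) :=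
      @mono_of_mono_fac _ _ _ _ _ _ _ _ (mono_comp _ _) (HomologicalComplex.cyclesMap_i S.f 0)
    haveI : Mono (HomologicalComplex.homologyMap S.f 0) := by
      have e := HomologicalComplex.homologyπ_naturality S.f 0
      have e' : HomologicalComplex.homologyMap S.f 0 =
          inv (S.X₁.homologyπ 0) ≫ HomologicalComplex.cyclesMap S.f 0 ≫ S.X₂.homologyπ 0 := by
        rw [← e, IsIso.inv_hom_id_assoc]
      rw [e']
      infer_instance
    have e := ((hS.homology_exact₂ 0).fIsKernel).conePointUniqueUpToIso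
      (kernelIsKernel (HomologicalComplex.homologyMap S.g 0))
    exact M1.isQCoh_of_isIso e.symm (M1.isQCoh_kernel (hV 0) (hW 0) _)

/-- The local cohomology sheaves are quasi-coherent. -/
theorem exists_isQCoh [QuasiCompact V.ι] [QuasiCompact W.ι] (F : Y.Modules) (hF : Coh.IsQCoh F) (i : ℕ) :
    ∃ M : Y.Modules, Coh.IsQCoh M ∧
      Nonempty (Coh.toAb M ≅ (SuppFam.HZshLC (X := Y.carrier) h i).obj (Coh.toAb F)) := by
  haveI := preservesFiniteLimits (X := Y.carrier) h
  haveI : (CohFound.abF Y).PreservesHomology := inferInstance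
  obtain ⟨e⟩ := RDComp.nonempty_rightDerivedAcyclicIso (CohFound.abF Y) (SuppFam.sectSuppLC (X := Y.carrier) h)
    (fun J hJ q hq => by
      obtain ⟨m, rfl⟩ : ∃ m, q = m + 1 := ⟨q - 1, by omega⟩
      haveI : TopCat.Sheaf.IsFlasque ((CohFound.abF Y).obj J) := CohFound.isFlasque_abF_injective J
      exact isZero_rightDerived_of_isFlasque (X := Y.carrier) h m _) i
  obtain ⟨e'⟩ := ExtDerived.nonempty_rightDerived_iso_of_iso i (cmpIso h) F
  exact ⟨((Tm h).rightDerived i).obj F, isQCoh_rightDerived_Tm h F hF i,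
    ⟨((RDComp.rightDerivedPostIso (Tm h) (CohFound.abF Y) i).symm.app F) ≪≫ e' ≪≫ e.app F⟩⟩

end Groth.Agent.SuppQCoh13
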