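import Groth.Prelude.Def_SuppFam
import Groth.Agent.Lib.LocCohZ.OpenSeq
import Groth.Agent.Lib.LocCohZ.Flasque
import Groth.Agent.Lib.RFPlus.Acyclic
import Groth.Agent.Lib.RFPlus.Adapted
import Groth.Agent.Lib.LocCohZ.ModCompare

/-!
# Sections with supports in a locally closed subset as a kernel
-/

set_option autoImplicit false
set_option backward.isDefEq.respectTransparency false
set_option backward.isDefEq.respectTransparency.types false

universe u

open CategoryTheory CategoryTheory.Limits Opposite TopologicalSpace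

noncomputable section

namespace Groth.Agent.SuppQCoh13

variable {X : TopCat.{u}}

/-- The trace `O ∩ V` of an open on the open `V`, as an image. -/
abbrev part (V O : Opens X) : Opens X :=
  (LocCohZ.isOpenEmbedding_incl V).functor.obj ((Opens.map (CohCx.incl V)).obj O)

theorem part_mono {W V : Opens X} (h : W ≤ V) (O : Opens X) : part W O ≤ part V O := by
  rw [part, part, LocCohZ.functor_map_obj, LocCohZ.functor_map_obj]
  exact inf_le_inf_left O h

/-- `j_* j⁻¹`. -/
abbrev Pv (V : Opens X) : CohTop.Ab X ⥤ CohTop.Ab X :=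
  CohTop.restrFunctor V ⋙ CohTop.push (CohCx.incl V)

/-- Restriction from `V` to `W`. -/
def ρ {W V : Opens X} (h : W ≤ V) : Pv V ⟶ Pv W where
  app F := ObjectProperty.homMk
    { app := fun O => F.obj.map (homOfLE (part_mono h O.unop)).op
      naturality := fun O O' g =>
        (F.obj.map_comp _ _).symm.trans
          ((congrArg F.obj.map (Subsingleton.elim _ _)).trans (F.obj.map_comp _ _)) }
  naturality F G f := by
    refine ObjectProperty.hom_ext _ ?_
    ext O : 2
    exact (f.hom.naturality _).symm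

variable {W V : Opens X} (h : W ≤ V)

/-- `Γ_Z ⟶ j_* j⁻¹`. -/
def κ : SuppFam.sectSuppLC h ⟶ Pv V where
  app F := (CohTop.push (CohCx.incl V)).map
    (kernel.ι (LocCohZ.η (SuppFam.inOpen V W) ((CohTop.restrFunctor V).obj F)))
  naturality F G f := by
    refine ((CohTop.push (CohCx.incl V)).map_comp _ _).symm.trans ?_
    refine Eq.trans ?_ ((CohTop.push (CohCx.incl V)).map_comp _ _)
    exact congrArg _ (kernel.lift_ι _ _ _)

theorem κ_injective (F : CohTop.Ab X) (O : Opens X) :
    Function.Injective (((κ h).app F).hom.app (op O)) :=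
  CohFound.injective_app_of_mono (kernel.ι (LocCohZ.η (SuppFam.inOpen V W) ((CohTop.restrFunctor V).obj F)))
    ((Opens.map (CohCx.incl V)).obj O)

theorem mem_κ_iff (F : CohTop.Ab X) (O : Opens X) (s : ((Pv V).obj F).obj.obj (op O)) :
    (∃ t, ((κ h).app F).hom.app (op O) t = s) ↔ ((ρ h).app F).hom.app (op O) s = 0 := by
  let U := SuppFam.inOpen V W
  let O' := (Opens.map (CohCx.incl V)).obj O
  have e1 : (LocCohZ.isOpenEmbedding_incl V).functor.obj (O' ⊓ U) = part W O := by
    rw [part, LocCohZ.functor_map_obj]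
    ext x
    constructor
    · rintro ⟨y, ⟨hy, hy'⟩, rfl⟩
      exact ⟨hy, hy'⟩
    · rintro ⟨hx, hx'⟩
      exact ⟨⟨x, h hx'⟩, ⟨hx, hx'⟩, rfl⟩
  have e2 : (((CohTop.restrFunctor V).obj F).obj.map (homOfLE (inf_le_left : O' ⊓ U ≤ O')).op).hom s = 0 ↔
      ((ρ h).app F).hom.app (op O) s = 0 := by
    change (F.obj.map ((LocCohZ.isOpenEmbedding_incl V).functor.map (homOfLE inf_le_left)).op).hom s = 0 ↔
      (F.obj.map (homOfLE (part_mono h O)).op).hom s = 0
    constructor
    · intro hz
      rw [← LocCohZ.map_map F ((LocCohZ.isOpenEmbedding_incl V).functor.map (homOfLE (inf_le_left : O' ⊓ U ≤ O'))).le e1.ge]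
      exact (congrArg (F.obj.map (homOfLE e1.ge).op).hom hz).trans (map_zero _)
    · intro hz
      have := LocCohZ.map_map F (part_mono h O) e1.le s
      rw [hz, map_zero] at this
      exact this.symm
  constructor
  · rintro ⟨t, rfl⟩
    exact e2.1 (LocCohZ.sectSupp_section_restr U ((CohTop.restrFunctor V).obj F) O' t)
  · intro hs
    exact LocCohZ.exists_sectSupp_section U ((CohTop.restrFunctor V).obj F) O' s (e2.2 hs)

theorem κ_ρ (F : CohTop.Ab X) : (κ h).app F ≫ (ρ h).app F = 0 := by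
  refine ObjectProperty.hom_ext _ ?_
  ext O : 2
  refine AddCommGrpCat.hom_ext (AddMonoidHom.ext fun t => ?_)
  exact (mem_κ_iff h F O.unop _).1 ⟨t, rfl⟩

theorem exact_κ_ρ (F : CohTop.Ab X) : (ShortComplex.mk _ _ (κ_ρ h F)).Exact :=
  CohFound.exact_of_sections fun O s hs => (mem_κ_iff h F O s).2 hs

theorem mono_κ (F : CohTop.Ab X) : Mono ((κ h).app F) :=
  CohFound.mono_of_injective_app _ (κ_injective h F)

theorem epi_ρ (F : CohTop.Ab X) [TopCat.Sheaf.IsFlasque F] : Epi ((ρ h).app F) :=
  CohFound.epi_of_locally_lift _ fun O s x hx => ⟨O, le_rfl, hx, by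
    obtain ⟨t, ht⟩ := CohFound.flasque_surjective F (part_mono h O) s
    exact ⟨t, ht.trans (LocCohZ.map_rfl _ (le_refl O) s).symm⟩⟩

theorem preservesFiniteLimits : PreservesFiniteLimits (SuppFam.sectSuppLC h) :=
  haveI : PreservesFiniteLimits (CohTop.restrFunctor V) :=
    ((Functor.exact_tfae (CohTop.restrFunctor V)).out 2 3 (a := Functor.PreservesHomology (CohTop.restrFunctor V))
      (b := PreservesFiniteLimits (CohTop.restrFunctor V) ∧ PreservesFiniteColimits (CohTop.restrFunctor V))).1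
      (LocCohZ.preservesHomology_restr V) |>.1
  haveI : PreservesFiniteLimits (CohTop.push (CohCx.incl V)) :=
    haveI : PreservesLimitsOfSize.{0, 0} (CohTop.push (CohCx.incl V)) :=
      (LocCohZ.restrAdj V).rightAdjoint_preservesLimits
    inferInstance
  haveI : PreservesFiniteLimits (_root_.LocCohZ.sectSuppF (SuppFam.inOpen V W)) :=
    (fun (Y : TopCat.{u}) (U : Opens Y) => (inferInstance : PreservesFiniteLimits (_root_.LocCohZ.sectSuppF U)))
      _ (SuppFam.inOpen V W)
  comp_preservesFiniteLimits _ _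

theorem epi_map (S : ShortComplex (CohTop.Ab X)) (hS : S.ShortExact) [TopCat.Sheaf.IsFlasque S.X₁] :
    Epi ((SuppFam.sectSuppLC h).map S.g) := by
  refine CohFound.epi_of_locally_lift _ fun O t x hx => ⟨O, le_rfl, hx, ?_⟩
  rw [show homOfLE (le_refl O) = 𝟙 O from Subsingleton.elim _ _]
  simp only [op_id, CategoryTheory.Functor.map_id]
  let b : S.X₃.obj.obj (op (part V O)) := ((κ h).app S.X₃).hom.app (op O) t
  obtain ⟨j, hj⟩ := CohFound.surjective_app_of_flasque hS (part V O) b
  have hz : S.g.hom.app (op (part W O)) ((S.X₂.obj.map (homOfLE (part_mono h O)).op).hom j) = 0 := by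
    refine (NatTrans.naturality_apply S.g.hom (homOfLE (part_mono h O)).op j).trans ?_
    rw [hj]
    exact (mem_κ_iff h S.X₃ O _).1 ⟨t, rfl⟩
  haveI := hS.mono_f
  obtain ⟨a, ha⟩ := CohFound.exact_app hS.exact _ hz
  obtain ⟨a', rfl⟩ := CohFound.flasque_surjective S.X₁ (part_mono h O) a
  have hj' : ((ρ h).app S.X₂).hom.app (op O) (j - S.f.hom.app (op (part V O)) a') = 0 := by
    change (S.X₂.obj.map (homOfLE (part_mono h O)).op).hom (j - S.f.hom.app (op (part V O)) a') = 0
    rw [map_sub, sub_eq_zero]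
    exact ha.symm.trans (NatTrans.naturality_apply S.f.hom (homOfLE (part_mono h O)).op a')
  obtain ⟨t₂, ht₂⟩ := (mem_κ_iff h S.X₂ O _).2 hj'
  refine ⟨t₂, κ_injective h S.X₃ O ?_⟩
  have hn : ((κ h).app S.X₃).hom.app (op O) (((SuppFam.sectSuppLC h).map S.g).hom.app (op O) t₂) =
      S.g.hom.app (op (part V O)) (((κ h).app S.X₂).hom.app (op O) t₂) :=
    congrArg (fun φ : (SuppFam.sectSuppLC h).obj S.X₂ ⟶ (Pv V).obj S.X₃ => φ.hom.app (op O) t₂)
      ((κ h).naturality S.g)
  refine hn.trans ?_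
  rw [ht₂, map_sub, hj]
  have hfg : S.g.hom.app (op (part V O)) (S.f.hom.app (op (part V O)) a') = 0 :=
    congrArg (fun φ : S.X₁ ⟶ S.X₃ => φ.hom.app (op (part V O)) a') S.zero
  rw [hfg, sub_zero]
  rfl

theorem isZero_rightDerived_of_isFlasque (n : ℕ) :
    ∀ (F : CohTop.Ab X) [TopCat.Sheaf.IsFlasque F],
      IsZero (((SuppFam.sectSuppLC h).rightDerived (n + 1)).obj F) := by
  haveI := preservesFiniteLimits h
  letI := HasDerivedCategory.standard (CohTop.Ab X)
  induction n with
  | zero =>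
    intro F _
    have hS : (CohFound.injSC F).ShortExact := CohFound.injSC_shortExact F
    haveI : TopCat.Sheaf.IsFlasque (CohFound.injSC F).X₁ := ‹_›
    haveI : Epi ((SuppFam.sectSuppLC h).map (CohFound.injSC F).g) := epi_map h _ hS
    refine RFPlus.isZero_rightDerived_X₁ (SuppFam.sectSuppLC h) _ hS 0
      (RFPlus.isAcyclicObj_injective (SuppFam.sectSuppLC h) _ 1 (by omega)) (Or.inr ?_)
    have := RFPlus.isIso_η (SuppFam.sectSuppLC h) (CohFound.injSC F).X₂
    have := RFPlus.isIso_η (SuppFam.sectSuppLC h) (CohFound.injSC F).X₃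
    have he : Epi (RFPlus.η (SuppFam.sectSuppLC h) (CohFound.injSC F).X₂ ≫
        (RFPlus.HR (SuppFam.sectSuppLC h) 0).map (RFPlus.singMap (CohFound.injSC F).g)) := by
      rw [← RFPlus.η_naturality]; infer_instance
    exact epi_of_epi (RFPlus.η (SuppFam.sectSuppLC h) (CohFound.injSC F).X₂) _
  | succ n ih =>
    intro F _
    have hS : (CohFound.injSC F).ShortExact := CohFound.injSC_shortExact F
    haveI : TopCat.Sheaf.IsFlasque (CohFound.injSC F).X₁ := ‹_›
    haveI : TopCat.Sheaf.IsFlasque (CohFound.injSC F).X₂ :=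
      CohFound.isFlasque_of_injective _
    haveI : TopCat.Sheaf.IsFlasque (CohFound.injSC F).X₃ :=
      TopCat.Sheaf.IsFlasque.of_shortExact_of_isFlasque₁₂ hS
    exact RFPlus.isZero_rightDerived_X₁ (SuppFam.sectSuppLC h) _ hS (n + 1)
      (RFPlus.isAcyclicObj_injective (SuppFam.sectSuppLC h) _ (n + 2) (by omega)) (Or.inl (ih _))

end Groth.Agent.SuppQCoh13
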